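import Groth.Agent.DerLib.Ghost
import Mathlib

/-!
# Powers of an ideal killing the cohomology of a perfect complex
-/

set_option autoImplicit false
set_option linter.unusedSectionVars false
set_option linter.style.haveILetI false

universe w w' v u u'

open CategoryTheory Limits MonoidalCategory DerivedCategory

namespace PerfPowLib

open Groth.Agent.DerLib.Ghost

section Ghosts

variable {C : Type u'} [Category.{v} C] [Abelian C] [HasDerivedCategory.{w'} C]

/-- Composites of a chain of morphisms. -/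
noncomputable def chain (Y : ℕ → DerivedCategory C) (g : ∀ n, Y (n + 1) ⟶ Y n) (n : ℕ) :
    ∀ k, Y (n + k) ⟶ Y n
  | 0 => 𝟙 _
  | k + 1 => g (n + k) ≫ chain Y g n k

theorem chain_eq_zero : ∀ (k : ℕ) (a : ℤ) (Y : ℕ → DerivedCategory C) (g : ∀ n, Y (n + 1) ⟶ Y n),
    (∀ n, (Y n).IsGE a) → (∀ n, (Y n).IsLE (a + k)) →
    (∀ n q, (homologyFunctor C q).map (g n) = 0) → ∀ n, chain Y g n (k + 1) = 0 := by
  intro k
  induction k with
  | zero =>
    intro a Y g hge hle hg n
    haveI := hge n
    haveI : (Y (n + 1)).IsLE a := haveI := hle (n + 1)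
      TStructure.t.isLE_of_le (Y (n + 1)) (a + ((0 : ℕ) : ℤ)) a (by simp)
    change g (n + 0) ≫ 𝟙 _ = 0
    rw [Category.comp_id]
    exact eq_zero_of_homologyMap_eq_zero a (g n) (hg n a)
  | succ k ih =>
    intro a Y g hge hle hg n
    let b : ℤ := a + k + 1
    haveI := hge
    haveI hle' : ∀ n, (Y n).IsLE b := fun n =>
      haveI := hle n
      TStructure.t.isLE_of_le (Y n) (a + ((k + 1 : ℕ) : ℤ)) b (by simp [b]; omega)
    let tr := TStructure.t.truncLT (C := DerivedCategory C) b
    let ι := TStructure.t.truncLTι (C := DerivedCategory C) b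
    have hchain : ∀ n j, chain (fun i => tr.obj (Y i)) (fun i => tr.map (g i)) n j ≫ ι.app (Y n) =
        ι.app (Y (n + j)) ≫ chain Y g n j := by
      intro n j
      induction j with
      | zero => exact (Category.id_comp _).trans (Category.comp_id _).symm
      | succ j ihj =>
        change (tr.map (g (n + j)) ≫ chain (fun i => tr.obj (Y i)) (fun i => tr.map (g i)) n j) ≫ ι.app (Y n) =
          ι.app (Y (n + j + 1)) ≫ g (n + j) ≫ chain Y g n j
        rw [Category.assoc, ihj, ← Category.assoc, ← Category.assoc, ι.naturality]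
        rfl
    have hlast : g (n + (k + 1)) ≫ (TStructure.t.truncGEπ b).app (Y (n + (k + 1))) = 0 := by
      haveI : ((TStructure.t.truncGE b).obj (Y (n + (k + 1)))).IsGE b :=
        TStructure.t.isGE_truncGE_obj _ b b le_rfl
      refine eq_zero_of_homologyMap_eq_zero b _ ?_
      rw [Functor.map_comp, hg, zero_comp]
    obtain ⟨(h : Y (n + (k + 1) + 1) ⟶ tr.obj (Y (n + (k + 1)))), hh⟩ := Pretriangulated.Triangle.coyoneda_exact₂ _
      (TStructure.t.triangleLTGE_distinguished b (Y (n + (k + 1)))) (g (n + (k + 1))) hlast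
    have hz := ih a (fun i => tr.obj (Y i)) (fun i => tr.map (g i)) (fun i => by
        rw [isGE_iff]
        intro q hq
        haveI := isIso_homologyMap_truncLTι (Y i) b q (by omega)
        exact (isZero_of_isGE (Y i) a q hq).of_iso (asIso ((homologyFunctor C q).map (ι.app (Y i)))))
      (fun i => TStructure.t.isLE_truncLT_obj (Y i) b (a + k) (by simp [b]))
      (fun i q => by
        by_cases hq : q < b
        · haveI := isIso_homologyMap_truncLTι (Y i) b q hq
          rw [← cancel_mono ((homologyFunctor C q).map (ι.app (Y i))), zero_comp, ← Functor.map_comp]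
          exact ((homologyFunctor C q).congr_map (ι.naturality (g i))).trans
            (by rw [Functor.map_comp]; simp [hg])
        · haveI : (tr.obj (Y i)).IsLE (b - 1) := TStructure.t.isLE_truncLT_obj (Y i) b (b - 1) (by omega)
          exact (isZero_of_isLE (tr.obj (Y i)) (b - 1) q (by omega)).eq_of_tgt _ _) n
    change g (n + (k + 1)) ≫ chain Y g n (k + 1) = 0
    have hh' : g (n + (k + 1)) = h ≫ ι.app (Y (n + (k + 1))) := hh
    rw [hh']
    exact (Category.assoc _ _ _).trans ((h ≫= ((hchain n (k + 1)).symm.trans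
      ((hz =≫ ι.app (Y n)).trans zero_comp))).trans comp_zero)

end Ghosts

variable {A : Type u} [CommRing A]

/-- Multiplication of an ideal on a module. -/
noncomputable def μ (I : Ideal A) (M : Type u) [AddCommGroup M] [Module A M] : TensorProduct A I M →ₗ[A] M :=
  TensorProduct.lift ((LinearMap.lsmul A M).comp I.subtype)

theorem μ_tmul (I : Ideal A) {M : Type u} [AddCommGroup M] [Module A M] (x : I) (v : M) :
    μ I M (x ⊗ₜ v) = (x : A) • v := rfl

theorem μ_injective (I : Ideal A) (M : Type u) [AddCommGroup M] [Module A M] [Module.Flat A M] :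
    Function.Injective (μ I M) := by
  have h : μ I M = (TensorProduct.lid A M).toLinearMap ∘ₗ I.subtype.rTensor M :=
    TensorProduct.ext' fun x v => rfl
  rw [h]
  exact (TensorProduct.lid A M).injective.comp
    (Module.Flat.rTensor_preserves_injective_linearMap I.subtype Subtype.val_injective)

theorem range_μ (I : Ideal A) (M : Type u) [AddCommGroup M] [Module A M] :
    LinearMap.range (μ I M) = I • (⊤ : Submodule A M) := by
  apply le_antisymm
  · rintro _ ⟨t, rfl⟩
    induction t using TensorProduct.induction_on with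
    | zero => simp
    | tmul x v => exact Submodule.smul_mem_smul x.2 trivial
    | add s t hs ht => rw [map_add]; exact add_mem hs ht
  · exact Submodule.smul_le.mpr fun x hx v _ => ⟨⟨x, hx⟩ ⊗ₜ v, rfl⟩

theorem μ_whiskerLeft (I : Ideal A) {M N : ModuleCat.{u} A} (f : M ⟶ N)
    (t : ((tensorLeft (ModuleCat.of A I)).obj M : ModuleCat.{u} A)) :
    μ I N (((tensorLeft (ModuleCat.of A I)).map f).hom t) = f.hom (μ I M t) :=
  LinearMap.congr_fun (f := (μ I N).comp ((tensorLeft (ModuleCat.of A I)).map f).hom)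
    (g := f.hom.comp (μ I M)) (TensorProduct.ext' fun x v => (map_smul f.hom (x : A) v).symm) t

theorem μ_incl {I I' : Ideal A} (h : I ≤ I') (M : ModuleCat.{u} A)
    (t : ((tensorLeft (ModuleCat.of A I)).obj M : ModuleCat.{u} A)) :
    μ I' M ((((curriedTensor (ModuleCat.{u} A)).map (ModuleCat.ofHom (Submodule.inclusion h))).app M).hom t) =
      μ I M t :=
  LinearMap.congr_fun
    (f := (μ I' M).comp (((curriedTensor (ModuleCat.{u} A)).map (ModuleCat.ofHom (Submodule.inclusion h))).app M).hom)
    (g := μ I M) (TensorProduct.ext' fun x v => rfl) t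

variable [IsNoetherianRing A]

theorem exists_zero_step (K : CochainComplex (ModuleCat.{u} A) ℤ) (q : ℤ)
    (hfin : Module.Finite A (K.X q)) (hproj : ∀ q : ℤ, Module.Projective A (K.X q))
    (J : Ideal A) (hJ : ∀ x ∈ J, ∀ c : ↑(K.homology q), x • c = 0) :
    ∃ c : ℕ, ∀ (m e : ℕ) (hme : m + c ≤ e),
      HomologicalComplex.homologyMap
        ((NatTrans.mapHomologicalComplex
          ((curriedTensor (ModuleCat.{u} A)).map
            (ModuleCat.ofHom (Submodule.inclusion (p := J ^ e) (p' := J ^ m)
              (Ideal.pow_le_pow_right (le_trans (Nat.le_add_right m c) hme)))))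
          (ComplexShape.up ℤ)).app K) q = 0 := by
  let d : K.X q →ₗ[A] K.X (q + 1) := (K.d q (q + 1)).hom
  obtain ⟨k, hk⟩ := Ideal.exists_pow_inf_eq_pow_smul J (LinearMap.ker d)
  refine ⟨k + 1, fun m e hme => ?_⟩
  let φ := (NatTrans.mapHomologicalComplex
    ((curriedTensor (ModuleCat.{u} A)).map
      (ModuleCat.ofHom (Submodule.inclusion (p := J ^ e) (p' := J ^ m)
        (Ideal.pow_le_pow_right (le_trans (Nat.le_add_right m (k + 1)) hme)))))
    (ComplexShape.up ℤ)).app K
  let S : Ideal A → CochainComplex (ModuleCat.{u} A) ℤ := fun I =>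
    ((tensorLeft (ModuleCat.of A I)).mapHomologicalComplex (ComplexShape.up ℤ)).obj K
  change HomologicalComplex.homologyMap φ q = 0
  rw [← cancel_epi ((S (J ^ e)).homologyπ q), comp_zero, HomologicalComplex.homologyπ_naturality]
  ext z
  let w := μ (J ^ e) (K.X q) (((S (J ^ e)).iCycles q).hom z)
  have hw : w ∈ LinearMap.ker d := by
    refine LinearMap.mem_ker.mpr ((μ_whiskerLeft (J ^ e) (K.d q (q + 1)) _).symm.trans ?_)
    refine (congrArg (μ (J ^ e) (K.X (q + 1)))
      (ConcreteCategory.congr_hom ((S (J ^ e)).iCycles_d q (q + 1)) z)).trans ?_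
    exact map_zero _
  have hwr : w ∈ J ^ m • LinearMap.range (K.d (q - 1) q).hom := by
    have h1 : w ∈ J ^ e • (⊤ : Submodule A (K.X q)) ⊓ LinearMap.ker d :=
      ⟨(range_μ (J ^ e) (K.X q)).le ⟨_, rfl⟩, hw⟩
    rw [hk e (by omega)] at h1
    have h2 : J • LinearMap.ker d ≤ LinearMap.range (K.d (q - 1) q).hom := by
      refine Submodule.smul_le.mpr fun x hx y hy => ?_
      let zy : K.cycles q := K.cyclesMk y (q + 1) (by simp) hy
      have h3 : (K.homologyπ q).hom (x • zy) = 0 := by rw [map_smul, hJ x hx]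
      obtain ⟨v, hv⟩ := (ShortComplex.moduleCat_exact_iff _).mp
        (ShortComplex.exact_of_g_is_cokernel
          (ShortComplex.mk (K.toCycles (q - 1) q) (K.homologyπ q) (K.toCycles_comp_homologyπ _ _))
          (K.homologyIsCokernel (q - 1) q (by simp))) (x • zy) h3
      refine ⟨v, ?_⟩
      have h4 := congrArg (K.iCycles q).hom hv
      rw [map_smul, show (K.iCycles q).hom zy = y from K.i_cyclesMk y (q + 1) (by simp) hy] at h4
      exact (ConcreteCategory.congr_hom (K.toCycles_i (q - 1) q) v).symm.trans h4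
    have h5 : J ^ (e - k) • (J ^ k • (⊤ : Submodule A (K.X q)) ⊓ LinearMap.ker d) ≤
        J ^ m • LinearMap.range (K.d (q - 1) q).hom :=
      calc J ^ (e - k) • (J ^ k • (⊤ : Submodule A (K.X q)) ⊓ LinearMap.ker d)
          ≤ J ^ (e - k) • LinearMap.ker d := Submodule.smul_mono le_rfl inf_le_right
        _ ≤ J ^ (m + 1) • LinearMap.ker d :=
            Submodule.smul_mono (Ideal.pow_le_pow_right (by omega)) le_rfl
        _ = J ^ m • (J • LinearMap.ker d) := by rw [pow_succ, Submodule.mul_smul]
        _ ≤ J ^ m • LinearMap.range (K.d (q - 1) q).hom := Submodule.smul_mono le_rfl h2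
    exact h5 h1
  rw [LinearMap.range_eq_map, ← Submodule.map_smul'', ← range_μ] at hwr
  obtain ⟨_, ⟨t, rfl⟩, ht⟩ := hwr
  haveI := hproj q
  have key : (HomologicalComplex.cyclesMap φ q).hom z = ((S (J ^ m)).toCycles (q - 1) q).hom t := by
    apply (ModuleCat.mono_iff_injective ((S (J ^ m)).iCycles q)).mp inferInstance
    refine μ_injective (J ^ m) (K.X q) ?_
    refine (congrArg (μ (J ^ m) (K.X q)) (ConcreteCategory.congr_hom (HomologicalComplex.cyclesMap_i φ q) z)).trans ?_
    refine (μ_incl _ (K.X q) (((S (J ^ e)).iCycles q).hom z)).trans ?_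
    refine Eq.trans ?_ (congrArg (μ (J ^ m) (K.X q))
      (ConcreteCategory.congr_hom ((S (J ^ m)).toCycles_i (q - 1) q) t)).symm
    exact ((μ_whiskerLeft (J ^ m) (K.d (q - 1) q) t).trans ht).symm
  exact (congrArg ((S (J ^ m)).homologyπ q).hom key).trans
    (ConcreteCategory.congr_hom ((S (J ^ m)).toCycles_comp_homologyπ (q - 1) q) t)

theorem exists_map_eq_zero [HasDerivedCategory.{w} (ModuleCat.{u} A)]
    (K : CochainComplex (ModuleCat.{u} A) ℤ) (a b : ℤ) (hK : ∀ q : ℤ, q < a ∨ b < q → IsZero (K.X q))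
    (hfin : ∀ q : ℤ, Module.Finite A (K.X q)) (hproj : ∀ q : ℤ, Module.Projective A (K.X q))
    (J : Ideal A) (hJ : ∀ q : ℤ, ∀ x ∈ J, ∀ c : ↑(K.homology q), x • c = 0) :
    ∃ n : ℕ, ∀ m : ℕ, 0 < m →
      DerivedCategory.Q.map
        ((NatTrans.mapHomologicalComplex
          ((curriedTensor (ModuleCat.{u} A)).map
            (ModuleCat.ofHom (Submodule.inclusion (p := J ^ (n + m)) (p' := J ^ m)
              (Ideal.pow_le_pow_right (Nat.le_add_left m n)))))
          (ComplexShape.up ℤ)).app K) = 0 := by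
  choose cq hcq using fun q => exists_zero_step K q (hfin q) hproj J (hJ q)
  let c := (Finset.Icc a b).sup cq
  let L := (b - a).toNat
  refine ⟨(L + 1) * c, fun m _ => ?_⟩
  let S : ℕ → CochainComplex (ModuleCat.{u} A) ℤ := fun i =>
    ((tensorLeft (ModuleCat.of A (J ^ (i * c + m) : Ideal A))).mapHomologicalComplex (ComplexShape.up ℤ)).obj K
  have hle : ∀ i j, i ≤ j → J ^ (j * c + m) ≤ J ^ (i * c + m) := fun i j hij =>
    Ideal.pow_le_pow_right (Nat.add_le_add_right (Nat.mul_le_mul_right c hij) m)
  let ψ : ∀ i j, i ≤ j → (S j ⟶ S i) := fun i j hij =>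
    (NatTrans.mapHomologicalComplex ((curriedTensor (ModuleCat.{u} A)).map
      (ModuleCat.ofHom (Submodule.inclusion (hle i j hij)))) (ComplexShape.up ℤ)).app K
  have hψ : ∀ i j l (h : i ≤ j) (h' : j ≤ l), ψ j l h' ≫ ψ i j h = ψ i l (h.trans h') := fun i j l h h' => by
    refine HomologicalComplex.hom_ext _ _ fun q => ?_
    refine ModuleCat.hom_ext (TensorProduct.ext' fun x v => ?_)
    rfl
  have hz : ∀ i q, q < a ∨ b < q → IsZero ((S i).X q) := fun i q hq =>
    Functor.map_isZero (tensorLeft _) (hK q hq)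
  haveI : ∀ i, (S i).IsStrictlyGE a := fun i =>
    (CochainComplex.isStrictlyGE_iff _ _).2 fun q hq => hz i q (Or.inl hq)
  haveI : ∀ i, (S i).IsStrictlyLE (a + L) := fun i =>
    (CochainComplex.isStrictlyLE_iff _ _).2 fun q hq => hz i q (Or.inr (by simp [L] at hq; omega))
  have hgh : ∀ i q, (homologyFunctor (ModuleCat.{u} A) q).map (Q.map (ψ i (i + 1) (Nat.le_succ i))) = 0 := by
    intro i q
    have h0 : HomologicalComplex.homologyMap (ψ i (i + 1) (Nat.le_succ i)) q = 0 := by
      by_cases hq : q ∈ Finset.Icc a b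
      · exact hcq q (i * c + m) ((i + 1) * c + m) (by
          have : cq q ≤ c := Finset.le_sup hq
          rw [add_mul, one_mul]; omega)
      · have hz' : IsZero ((S (i + 1)).homology q) :=
          ((HomologicalComplex.exactAt_iff _ q).2 (ShortComplex.exact_of_isZero_X₂ ((S (i + 1)).sc q)
            (hz (i + 1) q (by simp [Finset.mem_Icc] at hq; omega)))).isZero_homology
        exact hz'.eq_of_src _ _
    let e := homologyFunctorFactors (ModuleCat.{u} A) q
    refine (NatIso.naturality_2 e (ψ i (i + 1) (Nat.le_succ i))).symm.trans ?_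
    change e.hom.app (S (i + 1)) ≫ HomologicalComplex.homologyMap (ψ i (i + 1) (Nat.le_succ i)) q ≫ e.inv.app (S i) = 0
    rw [h0]
    exact (congrArg (e.hom.app (S (i + 1)) ≫ ·) zero_comp).trans comp_zero
  have hch : ∀ j, chain (fun i => Q.obj (S i)) (fun i => Q.map (ψ i (i + 1) (Nat.le_succ i))) 0 j =
      Q.map (ψ 0 (0 + j) (Nat.zero_le _)) := by
    intro j
    induction j with
    | zero =>
      have : ψ 0 0 le_rfl = 𝟙 _ := by
        refine HomologicalComplex.hom_ext _ _ fun q => ?_
        refine ModuleCat.hom_ext (TensorProduct.ext' fun x v => ?_)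
        rfl
      exact ((Q.congr_map this).trans (Q.map_id _)).symm
    | succ j ih =>
      change Q.map (ψ (0 + j) (0 + j + 1) (Nat.le_succ _)) ≫ _ = _
      rw [ih, ← Q.map_comp]
      exact Q.congr_map (hψ 0 (0 + j) (0 + j + 1) (Nat.zero_le _) (Nat.le_succ _))
  have h := chain_eq_zero L a (fun i => Q.obj (S i)) (fun i => Q.map (ψ i (i + 1) (Nat.le_succ i)))
    (fun i => inferInstance) (fun i => inferInstance) hgh 0
  rw [hch] at h
  have key : ∀ e e' : ℕ, (0 + (L + 1)) * c + m = e → 0 * c + m = e' → ∀ hee : J ^ e ≤ J ^ e',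
      Q.map ((NatTrans.mapHomologicalComplex ((curriedTensor (ModuleCat.{u} A)).map
        (ModuleCat.ofHom (Submodule.inclusion hee))) (ComplexShape.up ℤ)).app K) = 0 := by
    rintro e e' rfl rfl hee
    exact h
  exact key _ _ (by ring) (by ring) _

end PerfPowLib
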